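import Mathlib.GroupTheory.Nilpotent
import Mathlib.GroupTheory.PGroup
import Mathlib.Algebra.BigOperators.Ring.Finset
import Mathlib.Data.Finset.Lattice.Fold

/-!
# Chains of `p`-subgroups fixed by a `p`-element

The alternating sum over the normal chains stabilized by a `p`-element `x ≠ 1` of a function of the
stabilizer in `C(x)` collapses to the chain `{⟨x⟩}`.
-/

set_option autoImplicit false
set_option linter.unusedSectionVars false

namespace CfsgLib.Blocks.ChainSum

open scoped Classical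

variable {G : Type*} [Group G]

/-- A nonempty chain of nontrivial `p`-subgroups, each normal in the largest. -/
def IsNormalChain (p : ℕ) (s : Finset (Subgroup G)) : Prop :=
  s.Nonempty ∧ (∀ Q ∈ s, ∀ R ∈ s, Q ≤ R ∨ R ≤ Q) ∧ (∀ Q ∈ s, Q ≠ ⊥ ∧ IsPGroup p Q) ∧
    ∃ T ∈ s, ∀ Q ∈ s, Q ≤ T ∧ T ≤ Subgroup.normalizer ((Q : Subgroup G) : Set G)

/-- The stabilizer of a chain. -/
def chainStab (s : Finset (Subgroup G)) : Subgroup G :=
  ⨅ Q ∈ s, Subgroup.normalizer ((Q : Subgroup G) : Set G)

theorem mem_chainStab {s : Finset (Subgroup G)} {g : G} :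
    g ∈ chainStab s ↔ ∀ Q ∈ s, g ∈ Subgroup.normalizer ((Q : Subgroup G) : Set G) := by
  simp [chainStab, Subgroup.mem_iInf]

theorem chainStab_le {s : Finset (Subgroup G)} {Q : Subgroup G} (hQ : Q ∈ s) :
    chainStab s ≤ Subgroup.normalizer ((Q : Subgroup G) : Set G) :=
  fun _ hg => mem_chainStab.1 hg Q hQ

/-- The subgroup generated by the conjugates of `x` under `T`. -/
def conjClosure (T : Subgroup G) (x : G) : Subgroup G :=
  Subgroup.closure ((fun c => c * x * c⁻¹) '' (T : Set G))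

theorem mem_conjClosure (T : Subgroup G) (x : G) : x ∈ conjClosure T x :=
  Subgroup.subset_closure ⟨1, T.one_mem, by simp⟩

theorem conjClosure_mono {T U : Subgroup G} (h : T ≤ U) (x : G) :
    conjClosure T x ≤ conjClosure U x :=
  Subgroup.closure_mono (Set.image_mono h)

theorem conjClosure_le {T U : Subgroup G} {x : G} (hT : T ≤ Subgroup.normalizer (U : Set G))
    (hx : x ∈ U) : conjClosure T x ≤ U := by
  refine (Subgroup.closure_le _).2 ?_
  rintro _ ⟨c, hc, rfl⟩
  exact (Subgroup.mem_normalizer_iff.1 (hT hc) x).1 hx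

theorem mem_normalizer_conjClosure [Finite G] {T : Subgroup G} {x g : G}
    (h : ∀ c ∈ T, ∃ d ∈ T, g * (c * x * c⁻¹) * g⁻¹ = d * x * d⁻¹) :
    g ∈ Subgroup.normalizer (conjClosure T x : Set G) := by
  rw [Subgroup.mem_normalizer_iff_map_conj_eq]
  refine Subgroup.eq_of_le_of_card_ge ?_
    (Subgroup.card_map_of_injective (MulEquiv.injective _)).ge
  rw [conjClosure, MonoidHom.map_closure, Subgroup.closure_le]
  rintro _ ⟨_, ⟨c, hc, rfl⟩, rfl⟩
  obtain ⟨d, hd, he⟩ := h c hc
  exact Subgroup.subset_closure ⟨d, hd, he.symm⟩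

theorem mem_normalizer_sup {U V : Subgroup G} {g : G} (hU : g ∈ Subgroup.normalizer (U : Set G))
    (hV : g ∈ Subgroup.normalizer (V : Set G)) :
    g ∈ Subgroup.normalizer ((U ⊔ V : Subgroup G) : Set G) := by
  rw [Subgroup.mem_normalizer_iff_map_conj_eq] at hU hV ⊢
  rw [Subgroup.map_sup, hU, hV]

/-- Totally ordered members: the supremum is one of them. -/
theorem sup_mem (A : Finset (Subgroup G)) (h : ∀ Q ∈ A, ∀ R ∈ A, Q ≤ R ∨ R ≤ Q)
    (hA : A.Nonempty) : A.sup id ∈ A := by
  induction hA using Finset.Nonempty.cons_induction with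
  | singleton a => simp
  | cons a s ha hs ih =>
    have ih' := ih fun Q hQ R hR => h Q (by simp [hQ]) R (by simp [hR])
    rw [Finset.sup_cons, id]
    rcases h a (by simp) _ (Finset.mem_cons.2 (Or.inr ih')) with hle | hle
    · rw [sup_eq_right.2 hle]
      exact Finset.mem_cons.2 (Or.inr ih')
    · rw [sup_eq_left.2 hle]
      simp

/-- In a `p`-group, generation modulo `Q` by the conjugates of `x` is generation by `x`. -/
theorem sup_zpowers_eq [Finite G] {p : ℕ} [Fact p.Prime] {Q T : Subgroup G} {x : G}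
    (hT : IsPGroup p T) (hQ : Q ≤ T) (hx : x ∈ T) (h : Q ⊔ conjClosure T x = T) :
    Q ⊔ Subgroup.zpowers x = T := by
  set W := Q ⊔ Subgroup.zpowers x with hW
  have hWT : W ≤ T := sup_le hQ (Subgroup.zpowers_le.2 hx)
  by_contra hne
  have := hT.isNilpotent
  rcases eq_top_or_exists_le_coatom (W.subgroupOf T) with h1 | ⟨M, hM, hle⟩
  · exact hne (le_antisymm hWT (Subgroup.subgroupOf_eq_top.1 h1))
  have hn : M.Normal :=
    Subgroup.NormalizerCondition.normal_of_coatom M (Group.normalizerCondition_of_isNilpotent (G := T)) hM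
  have hQM : Q ≤ M.map T.subtype := fun q hq =>
    ⟨⟨q, hQ hq⟩, hle (Subgroup.mem_subgroupOf.2 (le_sup_left (a := Q) hq)), rfl⟩
  have hXM : conjClosure T x ≤ M.map T.subtype := by
    refine (Subgroup.closure_le _).2 ?_
    rintro _ ⟨c, hc, rfl⟩
    exact ⟨⟨c, hc⟩ * ⟨x, hx⟩ * ⟨c, hc⟩⁻¹, hn.conj_mem _
      (hle (Subgroup.mem_subgroupOf.2 (le_sup_right (a := Q) (Subgroup.mem_zpowers x)))) _, rfl⟩
  refine hM.1 (eq_top_iff.2 fun t _ => ?_)
  obtain ⟨m, hm, he⟩ := (sup_le hQM hXM) (h.symm ▸ t.2 : (t : G) ∈ Q ⊔ conjClosure T x)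
  rwa [← Subtype.ext (a1 := m) (a2 := t) he]

/-- The member inserted or removed. -/
noncomputable def pivot (x : G) (s : Finset (Subgroup G)) : Subgroup G :=
  (s.filter fun Q => x ∉ Q).sup id ⊔ conjClosure (s.sup id) x

/-- The involution on chains. -/
noncomputable def flipChain (x : G) (s : Finset (Subgroup G)) : Finset (Subgroup G) :=
  if pivot x s ∈ s then s.erase (pivot x s) else insert (pivot x s) s

theorem mem_pivot (x : G) (s : Finset (Subgroup G)) : x ∈ pivot x s :=
  le_sup_right (a := (s.filter fun Q => x ∉ Q).sup id) (mem_conjClosure _ x)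

theorem mem_flipChain {x : G} {s : Finset (Subgroup G)} {Q : Subgroup G} (h : Q ∈ flipChain x s) :
    Q = pivot x s ∨ Q ∈ s := by
  unfold flipChain at h
  split_ifs at h
  · exact Or.inr (Finset.mem_of_mem_erase h)
  · exact Finset.mem_insert.1 h

theorem flipChain_ne {x : G} (s : Finset (Subgroup G)) : flipChain x s ≠ s := by
  unfold flipChain
  split_ifs with h
  · exact fun e => (Finset.erase_eq_self.1 e) h
  · exact fun e => h (Finset.insert_eq_self.1 e)

variable [Finite G] {p : ℕ} [Fact p.Prime] {x : G} {s : Finset (Subgroup G)}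

theorem IsNormalChain.sup_mem (hs : IsNormalChain p s) :
    s.sup id ∈ s ∧ ∀ Q ∈ s, s.sup id ≤ Subgroup.normalizer ((Q : Subgroup G) : Set G) := by
  obtain ⟨-, -, -, T, hT, hTQ⟩ := hs
  have h : s.sup id = T :=
    le_antisymm (Finset.sup_le fun Q hQ => (hTQ Q hQ).1) (Finset.le_sup (f := id) hT)
  exact ⟨h ▸ hT, fun Q hQ => h ▸ (hTQ Q hQ).2⟩

theorem IsNormalChain.lower_sup (hs : IsNormalChain p s) :
    (s.filter fun Q => x ∉ Q).sup id = ⊥ ∨
      ((s.filter fun Q => x ∉ Q).sup id ∈ s ∧ x ∉ (s.filter fun Q => x ∉ Q).sup id) := by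
  rcases (s.filter fun Q => x ∉ Q).eq_empty_or_nonempty with h | h
  · exact Or.inl (by rw [h, Finset.sup_empty])
  · refine Or.inr (Finset.mem_filter.1 (ChainSum.sup_mem _ (fun Q hQ R hR => ?_) h))
    exact hs.2.1 Q (Finset.mem_of_mem_filter _ hQ) R (Finset.mem_of_mem_filter _ hR)

theorem IsNormalChain.lower_sup_le (hs : IsNormalChain p s) {Q : Subgroup G} (hQ : Q ∈ s)
    (hxQ : x ∈ Q) : (s.filter fun R => x ∉ R).sup id ≤ Q :=
  Finset.sup_le fun R hR => by
    obtain ⟨hR, hxR⟩ := Finset.mem_filter.1 hR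
    exact (hs.2.1 R hR Q hQ).resolve_right fun h => hxR (h hxQ)

/-- The pivot is below every member containing `x`. -/
theorem IsNormalChain.pivot_le (hs : IsNormalChain p s) {Q : Subgroup G} (hQ : Q ∈ s)
    (hxQ : x ∈ Q) : pivot x s ≤ Q :=
  sup_le (hs.lower_sup_le hQ hxQ) (conjClosure_le (hs.sup_mem.2 Q hQ) hxQ)

theorem IsNormalChain.mem_normalizer_pivot (hs : IsNormalChain p s) {g : G}
    (hg : g ∈ chainStab s)
    (h : ∀ c ∈ s.sup id, ∃ d ∈ s.sup id, g * (c * x * c⁻¹) * g⁻¹ = d * x * d⁻¹) :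
    g ∈ Subgroup.normalizer (pivot x s : Set G) := by
  refine mem_normalizer_sup ?_ (mem_normalizer_conjClosure h)
  rcases hs.lower_sup (x := x) with h0 | ⟨h0, -⟩
  · rw [h0, Subgroup.mem_normalizer_iff]
    simp
  · exact chainStab_le h0 hg

variable (hs : IsNormalChain p s) (hx : ∃ k : ℕ, orderOf x = p ^ k) (hxs : x ∈ chainStab s)
include hs hx hxs

/-- A chain other than `{⟨x⟩}` with the pivot on top has the next member below it. -/
theorem pivot_top (htop : pivot x s = s.sup id) :
    (s.filter fun Q => x ∉ Q).sup id ⊔ Subgroup.zpowers x = s.sup id ∧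
      s.erase (pivot x s) = s.filter fun Q => x ∉ Q := by
  have hxT : x ∈ s.sup id := htop ▸ mem_pivot x s
  refine ⟨sup_zpowers_eq (hs.2.2.1 _ hs.sup_mem.1).2 (hs.lower_sup_le hs.sup_mem.1 hxT) hxT htop, ?_⟩
  ext Q
  simp only [Finset.mem_erase, Finset.mem_filter]
  refine ⟨fun ⟨hne, hQ⟩ => ⟨hQ, fun hxQ => hne (le_antisymm ?_ (hs.pivot_le hQ hxQ))⟩,
    fun ⟨hQ, hxQ⟩ => ⟨fun e => hxQ (e ▸ mem_pivot x s), hQ⟩⟩
  rw [htop]
  exact Finset.le_sup (f := id) hQ

theorem flipChain_nonempty (hne : s ≠ {Subgroup.zpowers x}) : (flipChain x s).Nonempty := by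
  unfold flipChain
  split_ifs with h
  · by_contra h0
    rw [Finset.not_nonempty_iff_eq_empty, Finset.erase_eq_empty_iff] at h0
    rcases h0 with h0 | h0
    · exact (Finset.nonempty_iff_ne_empty.1 hs.1) h0
    have htop : pivot x s = s.sup id := by
      have : s.sup id = ({pivot x s} : Finset (Subgroup G)).sup id := by rw [← h0]
      rw [this, Finset.sup_singleton, id]
    obtain ⟨h1, h2⟩ := pivot_top hs hx hxs htop
    rw [← h2, show s.erase (pivot x s) = ∅ from (Finset.erase_eq_empty_iff _ _).2 (Or.inr h0),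
      Finset.sup_empty, bot_sup_eq] at h1
    exact hne (by rw [h0, htop, h1])
  · exact Finset.insert_nonempty _ _

theorem isNormalChain_flipChain (hne : s ≠ {Subgroup.zpowers x}) (hx1 : x ≠ 1) :
    IsNormalChain p (flipChain x s) ∧ x ∈ chainStab (flipChain x s) := by
  set T₁ := s.sup id ⊔ Subgroup.zpowers x
  obtain ⟨hTs, hTn⟩ := hs.sup_mem
  have hxT : Subgroup.zpowers x ≤ Subgroup.normalizer ((s.sup id : Subgroup G) : Set G) :=
    Subgroup.zpowers_le.2 (chainStab_le hTs hxs)
  have hT₁ : IsPGroup p T₁ := by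
    obtain ⟨k, hk⟩ := hx
    exact (hs.2.2.1 _ hTs).2.to_sup_of_normal_left'
      (IsPGroup.of_card (n := k) (by rw [Nat.card_zpowers, hk])) hxT
  have hxT₁ : x ∈ T₁ := le_sup_right (a := s.sup id) (Subgroup.mem_zpowers x)
  have hRle : pivot x s ≤ T₁ :=
    sup_le ((Finset.sup_mono (Finset.filter_subset _ _)).trans le_sup_left)
      (conjClosure_le (le_sup_left.trans Subgroup.le_normalizer) hxT₁)
  have hle : ∀ Q ∈ flipChain x s, Q ≤ T₁ := fun Q hQ => by
    rcases mem_flipChain hQ with rfl | hQ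
    · exact hRle
    · exact (Finset.le_sup (f := id) hQ).trans le_sup_left
  have hnorm : ∀ Q ∈ flipChain x s, T₁ ≤ Subgroup.normalizer ((Q : Subgroup G) : Set G) :=
    fun Q hQ => by
    rcases mem_flipChain hQ with rfl | hQ
    · exact sup_le (fun g hg => hs.mem_normalizer_pivot (mem_chainStab.2 fun Q hQ => hTn Q hQ hg)
          fun c hc => ⟨g * c, mul_mem hg hc, by group⟩)
        (Subgroup.zpowers_le.2 (Subgroup.le_normalizer (mem_pivot x s)))
    · exact sup_le (hTn Q hQ) (Subgroup.zpowers_le.2 (chainStab_le hQ hxs))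
  have htot : ∀ Q ∈ flipChain x s, ∀ R ∈ flipChain x s, Q ≤ R ∨ R ≤ Q := by
    have hR : ∀ Q ∈ s, pivot x s ≤ Q ∨ Q ≤ pivot x s := fun Q hQ => by
      by_cases hxQ : x ∈ Q
      · exact Or.inl (hs.pivot_le hQ hxQ)
      · exact Or.inr ((Finset.le_sup (f := id) (Finset.mem_filter.2 ⟨hQ, hxQ⟩)).trans le_sup_left)
    intro Q hQ R hR'
    rcases mem_flipChain hQ with rfl | hQ' <;> rcases mem_flipChain hR' with rfl | hR''
    · exact Or.inl le_rfl
    · exact hR R hR''
    · exact (hR Q hQ').symm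
    · exact hs.2.1 Q hQ' R hR''
  refine ⟨⟨flipChain_nonempty hs hx hxs hne, htot, fun Q hQ => ⟨?_, hT₁.to_le (hle Q hQ)⟩, ?_⟩,
    mem_chainStab.2 fun Q hQ => hnorm Q hQ hxT₁⟩
  · rcases mem_flipChain hQ with rfl | hQ'
    · intro e
      have := mem_pivot x s
      rw [e, Subgroup.mem_bot] at this
      exact hx1 this
    · exact (hs.2.2.1 Q hQ').1
  · have hmem := ChainSum.sup_mem _ htot (flipChain_nonempty hs hx hxs hne)
    exact ⟨_, hmem, fun Q hQ =>
      ⟨Finset.le_sup (f := id) hQ, (hle _ hmem).trans (hnorm Q hQ)⟩⟩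

theorem pivot_flipChain : pivot x (flipChain x s) = pivot x s := by
  set R := pivot x s with hR
  have hxR : x ∈ R := mem_pivot x s
  have hA : (flipChain x s).filter (fun Q => x ∉ Q) = s.filter fun Q => x ∉ Q := by
    unfold flipChain
    rw [← hR]
    split_ifs
    · rw [Finset.filter_erase, Finset.erase_eq_of_notMem (by simp [hxR])]
    · rw [Finset.filter_insert, if_neg (not_not.2 hxR)]
  conv_lhs => rw [pivot, hA]
  unfold flipChain
  rw [← hR]
  split_ifs with h
  · have hRT : R ≤ s.sup id := Finset.le_sup (f := id) h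
    by_cases hT : R = s.sup id
    · obtain ⟨h1, h2⟩ := pivot_top hs hx hxs hT
      rw [← hR] at h2
      rw [h2]
      refine le_antisymm (sup_le_sup_left (conjClosure_mono
        (Finset.sup_mono (Finset.filter_subset _ _)) x) _) ?_
      rw [hT, ← h1]
      exact sup_le_sup_left (Subgroup.zpowers_le.2 (mem_conjClosure _ x)) _
    · rw [show (s.erase R).sup id = s.sup id from le_antisymm (Finset.sup_mono (Finset.erase_subset _ _))
        (Finset.le_sup (f := id) (Finset.mem_erase.2 ⟨Ne.symm hT, hs.sup_mem.1⟩))]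
      rfl
  · rw [Finset.sup_insert, id]
    by_cases hxT : x ∈ s.sup id
    · rw [sup_eq_right.2 (hs.pivot_le hs.sup_mem.1 hxT)]
      rfl
    · have hAs : (s.filter fun Q => x ∉ Q) = s := Finset.filter_eq_self.2 fun Q hQ hxQ =>
        hxT (Finset.le_sup (f := id) hQ hxQ)
      have hTR : s.sup id ≤ R := by
        rw [hR, pivot, hAs]
        exact le_sup_left
      rw [sup_eq_left.2 hTR, hAs]
      refine le_antisymm (sup_le hTR (conjClosure_le Subgroup.le_normalizer hxR)) ?_
      conv_lhs => rw [hR, pivot, hAs]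
      exact sup_le_sup_left (conjClosure_mono hTR x) _

theorem flipChain_flipChain : flipChain x (flipChain x s) = s := by
  have h := pivot_flipChain hs hx hxs
  rw [flipChain, h]
  by_cases hR : pivot x s ∈ s
  · rw [flipChain, if_pos hR, if_neg (Finset.notMem_erase _ _), Finset.insert_erase hR]
  · rw [flipChain, if_neg hR, if_pos (Finset.mem_insert_self _ _), Finset.erase_insert hR]

omit hx in
theorem chainStab_le_flipChain :
    chainStab s ⊓ Subgroup.centralizer ({x} : Set G) ≤ chainStab (flipChain x s) := by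
  rintro g ⟨hg, hgx⟩
  refine mem_chainStab.2 fun Q hQ => ?_
  rcases mem_flipChain hQ with rfl | hQ
  · refine hs.mem_normalizer_pivot hg fun c hc =>
      ⟨g * c * g⁻¹, (Subgroup.mem_normalizer_iff.1 (chainStab_le hs.sup_mem.1 hg) c).1 hc, ?_⟩
    have h : g * x = x * g := Subgroup.mem_centralizer_singleton_iff.1 hgx
    calc g * (c * x * c⁻¹) * g⁻¹ = g * c * g⁻¹ * (g * x * g⁻¹) * (g * c * g⁻¹)⁻¹ := by group
      _ = _ := by rw [h, mul_inv_cancel_right]
  · exact chainStab_le hQ hg

omit hs hx hxs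

/-- **The collapse**: only `{⟨x⟩}` survives. -/
theorem sum_chains [Fintype (Finset (Subgroup G))] {R : Type*} [Ring R] (hx : ∃ k : ℕ, orderOf x = p ^ k)
    (hx1 : x ≠ 1) (F : Subgroup G → R) :
    ∑ s ∈ Finset.univ.filter (fun s : Finset (Subgroup G) => IsNormalChain p s ∧ x ∈ chainStab s),
        (-1 : R) ^ (s.card - 1) * F (chainStab s ⊓ Subgroup.centralizer ({x} : Set G)) =
      F (Subgroup.centralizer ({x} : Set G)) := by
  set S := Finset.univ.filter (fun s : Finset (Subgroup G) => IsNormalChain p s ∧ x ∈ chainStab s)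
  set Z : Finset (Subgroup G) := {Subgroup.zpowers x} with hZdef
  have hZne : Subgroup.zpowers x ≠ ⊥ := fun e => hx1 (Subgroup.zpowers_eq_bot.1 e)
  have hZs : IsNormalChain p Z := by
    obtain ⟨k, hk⟩ := hx
    refine ⟨Finset.singleton_nonempty _, ?_, ?_, _, Finset.mem_singleton_self _, ?_⟩
    · simp [hZdef]
    · intro Q hQ
      rw [Finset.mem_singleton.1 hQ]
      exact ⟨hZne, IsPGroup.of_card (n := k) (by rw [Nat.card_zpowers, hk])⟩
    · intro Q hQ
      rw [Finset.mem_singleton.1 hQ]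
      exact ⟨le_rfl, Subgroup.le_normalizer⟩
  have hZ : Z ∈ S := Finset.mem_filter.2 ⟨Finset.mem_univ _, hZs, mem_chainStab.2 fun Q hQ => by
    rw [Finset.mem_singleton.1 hQ]
    exact Subgroup.le_normalizer (Subgroup.mem_zpowers x)⟩
  have hfix : chainStab Z ⊓ Subgroup.centralizer ({x} : Set G) = Subgroup.centralizer ({x} : Set G) := by
    refine inf_eq_right.2 fun g hg => mem_chainStab.2 fun Q hQ => ?_
    rw [Finset.mem_singleton.1 hQ, Subgroup.mem_normalizer_iff_map_conj_eq, MonoidHom.map_zpowers]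
    have h : g * x = x * g := Subgroup.mem_centralizer_singleton_iff.1 hg
    simp [MulAut.conj_apply, h]
  rw [← Finset.add_sum_erase _ _ hZ, hfix, hZdef, Finset.card_singleton, Nat.sub_self, pow_zero,
    one_mul, add_eq_left, ← hZdef]
  refine Finset.sum_involution (fun s _ => flipChain x s) ?_ (fun s _ _ => flipChain_ne s) ?_ ?_
  · intro s hs
    obtain ⟨hne, hs⟩ := Finset.mem_erase.1 hs
    obtain ⟨-, hs, hxs⟩ := Finset.mem_filter.1 hs
    obtain ⟨hs', hxs'⟩ := isNormalChain_flipChain hs hx hxs hne hx1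
    have hstab : chainStab (flipChain x s) ⊓ Subgroup.centralizer ({x} : Set G) =
        chainStab s ⊓ Subgroup.centralizer ({x} : Set G) := by
      refine le_antisymm (le_inf ?_ inf_le_right) (le_inf (chainStab_le_flipChain hs hxs) inf_le_right)
      have := chainStab_le_flipChain hs' hxs'
      rwa [flipChain_flipChain hs hx hxs] at this
    rw [hstab]
    have h1 := hs.1.card_pos
    have h2 := hs'.1.card_pos
    rw [← add_mul]
    refine mul_eq_zero_of_left ?_ _
    unfold flipChain at h2 ⊢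
    split_ifs at h2 ⊢ with h
    · rw [Finset.card_erase_of_mem h] at h2 ⊢
      obtain ⟨m, hm⟩ : ∃ m, s.card = m + 2 := ⟨s.card - 2, by omega⟩
      rw [hm]
      simp [pow_succ]
    · rw [Finset.card_insert_of_notMem h, Nat.add_sub_cancel]
      obtain ⟨m, hm⟩ : ∃ m, s.card = m + 1 := ⟨s.card - 1, by omega⟩
      rw [hm]
      simp [pow_succ]
  · intro s hs
    obtain ⟨hne, hs⟩ := Finset.mem_erase.1 hs
    obtain ⟨-, hs, hxs⟩ := Finset.mem_filter.1 hs
    obtain ⟨hs', hxs'⟩ := isNormalChain_flipChain hs hx hxs hne hx1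
    refine Finset.mem_erase.2 ⟨fun e => ?_, Finset.mem_filter.2 ⟨Finset.mem_univ _, hs', hxs'⟩⟩
    have h := flipChain_flipChain hs hx hxs
    have hp : pivot x Z = Subgroup.zpowers x := by
      rw [pivot, hZdef, Finset.filter_singleton, if_neg (not_not.2 (Subgroup.mem_zpowers x)),
        Finset.sup_empty, bot_sup_eq, Finset.sup_singleton, id]
      exact le_antisymm (conjClosure_le Subgroup.le_normalizer (Subgroup.mem_zpowers x))
        (Subgroup.zpowers_le.2 (mem_conjClosure _ x))
    rw [e, flipChain, hp, if_pos (Finset.mem_singleton_self _), hZdef, Finset.erase_singleton] at h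
    exact (Finset.nonempty_iff_ne_empty.1 hs.1) h.symm
  · intro s hs
    obtain ⟨-, hs, hxs⟩ := Finset.mem_filter.1 (Finset.mem_of_mem_erase hs)
    exact flipChain_flipChain hs hx hxs

end CfsgLib.Blocks.ChainSum
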