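import Cfsg.Agent.Lib.Blocks.SubsectionNorms
import Cfsg.Agent.Lib.Blocks.Star.Compose
import Cfsg.Agent.Lib.Blocks.Induced
import Cfsg.Agent.Lib.Blocks.ExtendedFirst
import Cfsg.Agent.Lib.CharAction.Rank

/-!
# `k - l` of a union of blocks as a sum over the `p`-sections

The union is given by a central element `a` of the group algebra in characteristic `p`: it consists
of the characters whose reduced central character takes the value `1` at `a`.
-/

set_option autoImplicit false
set_option linter.unusedSectionVars false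

namespace CfsgLib.Blocks.ChainSum

open Cfsg CfsgLib.Char CfsgLib.CharAction MonoidAlgebra
open scoped ComplexConjugate Classical

variable {G : Type*} [Group G] [Fintype G] {p : ℕ} [Fact p.Prime] {M : Ideal AlgInt} [M.IsPrime]

/-- The squared absolute values at `y` of the characters with `ω a = 1`. -/
noncomputable def cutNorm {K : Type*} [Group K] [Fintype K] (a : MonoidAlgebra (Res M) K) (y : K) : ℂ :=
  ∑ᶠ η : IrrCharacter K, if omegaBar η a = 1 then (η : K → ℂ) y * conj ((η : K → ℂ) y) else 0

/-- The sum of `cutNorm` over the `p`-regular elements. -/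
noncomputable def regNorm (p : ℕ) {K : Type*} [Group K] [Fintype K]
    (a : MonoidAlgebra (Res M) K) : ℂ :=
  ∑ y : K, if p ∣ orderOf y then 0 else cutNorm a y

omit [Fact p.Prime] in
theorem regNorm_congr {K L : Type*} [Group K] [Fintype K] [Group L] [Fintype L] (φ : K ≃* L)
    {a : MonoidAlgebra (Res M) K} (ha : IsCentralElt a) {c : MonoidAlgebra (Res M) L}
    (hac : ∀ k, a.coeff k = c.coeff (φ k)) : regNorm p a = regNorm p c := by
  refine Fintype.sum_equiv φ.toEquiv _ _ fun y => ?_
  rw [MulEquiv.toEquiv_eq_coe, EquivLike.coe_coe, MulEquiv.orderOf_eq]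
  refine if_congr Iff.rfl rfl (finsum_eq_of_bijective (pullEquiv φ).symm (Equiv.bijective _) fun η => ?_)
  obtain ⟨η, rfl⟩ := (pullEquiv φ).surjective η
  rw [Equiv.symm_apply_apply, omegaBar_pullEquiv φ η ha hac]
  simp only [pullEquiv_apply]

variable (hM : IsPModular p M)
include hM

omit [Fact p.Prime] in
theorem sum_eq_sum_blocks [Fintype (IrrCharacter G)] (f : IrrCharacter G → ℂ) :
    ∑ η, f η = ∑ b ∈ Finset.univ.image (fun η : IrrCharacter G => blockOf M (η : G → ℂ)),
      ∑ η ∈ (Set.toFinite b).toFinset, f η := by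
  rw [← Finset.sum_fiberwise_of_maps_to (g := fun η : IrrCharacter G => blockOf M (η : G → ℂ))
    fun η _ => Finset.mem_image.2 ⟨η, Finset.mem_univ η, rfl⟩]
  refine Finset.sum_congr rfl fun b hb => Finset.sum_congr ?_ fun _ _ => rfl
  obtain ⟨η₀, -, rfl⟩ := Finset.mem_image.1 hb
  ext η
  simp only [Finset.mem_filter, Finset.mem_univ, true_and, Set.Finite.mem_toFinset]
  exact ⟨fun h => h ▸ mem_blockOf_self η,
    fun h => (IsPBlock.eq_blockOf (isPBlock_blockOf η₀) h).symm⟩

variable {x : G}

/-- The parts at a block against the values on the section. -/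
theorem sum_blockPart_mul_conj_apply (hx : ∃ k : ℕ, orderOf x = p ^ k) [Fintype (IrrCharacter G)]
    {b : Set (IrrCharacter (Subgroup.centralizer ({x} : Set G)))} (hb : IsPBlock M b)
    {y : Subgroup.centralizer ({x} : Set G)} (hy : ¬ p ∣ orderOf y) :
    ∑ χ : IrrCharacter G,
        blockPart b (fun c : Subgroup.centralizer ({x} : Set G) => (χ : G → ℂ) (x * (c : G))) y *
          conj ((χ : G → ℂ) (x * (y : G))) =
      ∑ ψ ∈ (Set.toFinite b).toFinset,
        (ψ : Subgroup.centralizer ({x} : Set G) → ℂ) y *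
          conj ((ψ : Subgroup.centralizer ({x} : Set G) → ℂ) y) := by
  set A := (Set.toFinite b).toFinset
  set R := Finset.univ.filter fun w : (Subgroup.centralizer ({x} : Set G)) => ¬ p ∣ orderOf w with hR
  let K : (Subgroup.centralizer ({x} : Set G)) → (Subgroup.centralizer ({x} : Set G)) → ℂ := fun v w => ∑ ψ ∈ A, (ψ : (Subgroup.centralizer ({x} : Set G)) → ℂ) v * conj ((ψ : (Subgroup.centralizer ({x} : Set G)) → ℂ) w)
  have hK : ∀ v, IsClassFunction (Subgroup.centralizer ({x} : Set G)) (K v) := fun v w c => Finset.sum_congr rfl fun ψ _ => by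
    rw [Char.IsIrr.isClassFunction ψ.2 w c]
  have hbp : ∀ χ : IrrCharacter G, blockPart b (fun c : (Subgroup.centralizer ({x} : Set G)) => (χ : G → ℂ) (x * (c : G))) y =
      (Nat.card ↥(Subgroup.centralizer ({x} : Set G)) : ℂ)⁻¹ * ∑ w ∈ R, (χ : G → ℂ) (x * (w : G)) * K y w := fun χ => by
    rw [blockPart_apply, hR, Finset.sum_filter]
    congr 1
    refine Finset.sum_congr rfl fun w _ => ?_
    by_cases hw : p ∣ orderOf w
    · rw [if_neg (not_not.2 hw), sum_block_regular_singular hM hb hy (by rwa [orderOf_inv]),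
        mul_zero]
    · rw [if_pos hw, finsum_mem_eq_finite_toFinset_sum _ (Set.toFinite b)]
      exact congrArg _ (Finset.sum_congr rfl fun ψ _ => by rw [Char.IsIrr.map_inv ψ.2])
  have hmaps : ∀ c ∈ (Finset.univ : Finset (Subgroup.centralizer ({x} : Set G))), c⁻¹ * y * c ∈ R := fun c _ => by
    simp only [hR, Finset.mem_filter, Finset.mem_univ, true_and]
    rwa [show c⁻¹ * y * c = MulAut.conj c⁻¹ y by simp, MulEquiv.orderOf_eq]
  have hC0 : (Nat.card ↥(Subgroup.centralizer ({x} : Set G)) : ℂ) ≠ 0 := Nat.cast_ne_zero.2 Nat.card_pos.ne'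
  calc ∑ χ : IrrCharacter G, blockPart b (fun c : (Subgroup.centralizer ({x} : Set G)) => (χ : G → ℂ) (x * (c : G))) y *
        conj ((χ : G → ℂ) (x * (y : G)))
      = (Nat.card ↥(Subgroup.centralizer ({x} : Set G)) : ℂ)⁻¹ * ∑ w ∈ R, K y w *
          ∑ χ : IrrCharacter G, (χ : G → ℂ) (x * (w : G)) * conj ((χ : G → ℂ) (x * (y : G))) := by
        simp only [hbp, Finset.mul_sum, Finset.sum_mul]
        rw [Finset.sum_comm]
        exact Finset.sum_congr rfl fun w _ => Finset.sum_congr rfl fun χ _ => by ring
    _ = (Nat.card ↥(Subgroup.centralizer ({x} : Set G)) : ℂ)⁻¹ * ∑ c : (Subgroup.centralizer ({x} : Set G)), K y (c⁻¹ * y * c) := by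
        congr 1
        rw [← Finset.sum_fiberwise_of_maps_to hmaps (fun c => K y (c⁻¹ * y * c))]
        refine Finset.sum_congr rfl fun w hw => ?_
        rw [Char.column_orthogonality, ← card_conj_eq_centralizer hx (Finset.mem_filter.1 hw).2 hy,
          Finset.sum_congr rfl (g := fun _ => K y w) fun c hc => by rw [(Finset.mem_filter.1 hc).2],
          Finset.sum_const, nsmul_eq_mul, mul_comm]
        congr 3
        ext c
        simp only [Finset.mem_filter, Finset.mem_univ, true_and]
        constructor <;> rintro rfl <;> group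
    _ = _ := by
        rw [Finset.sum_congr rfl (g := fun _ => K y y) fun c _ => by
            have h := hK y y c⁻¹
            rwa [inv_inv] at h,
          Finset.sum_const, Finset.card_univ, nsmul_eq_mul, ← Nat.card_eq_fintype_card,
          inv_mul_cancel_left₀ hC0]

/-- The squared absolute values on a section of the characters with `ω a = 1`. -/
theorem cutNorm_mul {a : MonoidAlgebra (Res M) G} (ha : IsCentralElt a)
    (hx : ∃ k : ℕ, orderOf x = p ^ k) {y : Subgroup.centralizer ({x} : Set G)}
    (hy : ¬ p ∣ orderOf y) :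
    cutNorm a (x * (y : G)) = cutNorm (resElt (Subgroup.centralizer ({x} : Set G)) a) y := by
  have := Fintype.ofFinite (IrrCharacter G)
  have := Fintype.ofFinite (IrrCharacter (Subgroup.centralizer ({x} : Set G)))
  set θ := fun (χ : IrrCharacter G) (c : (Subgroup.centralizer ({x} : Set G))) => (χ : G → ℂ) (x * (c : G))
  set v := fun χ : IrrCharacter G => ∑ η : IrrCharacter (Subgroup.centralizer ({x} : Set G)),
    if omegaBar η (resElt (Subgroup.centralizer ({x} : Set G)) a) = 1 then classInner (θ χ) (η : (Subgroup.centralizer ({x} : Set G)) → ℂ) * (η : (Subgroup.centralizer ({x} : Set G)) → ℂ) y else 0 with hv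
  have hval : ∀ χ, v χ = if omegaBar χ a = 1 then (χ : G → ℂ) (x * (y : G)) else 0 := by
    intro χ
    have h0 : (χ : G → ℂ) (x * (y : G)) =
        ∑ η : IrrCharacter (Subgroup.centralizer ({x} : Set G)), classInner (θ χ) (η : (Subgroup.centralizer ({x} : Set G)) → ℂ) * (η : (Subgroup.centralizer ({x} : Set G)) → ℂ) y :=
      Char.classFunction_apply_eq_sum (isClassFunction_apply_mul (Char.IsIrr.isClassFunction χ.2)) y
    rw [h0, show ∀ f : IrrCharacter (Subgroup.centralizer ({x} : Set G)) → ℂ,
      (if omegaBar χ a = 1 then ∑ η, f η else 0) = ∑ η, if omegaBar χ a = 1 then f η else 0 from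
        fun f => by split_ifs <;> simp, hv]
    show (∑ η : IrrCharacter (Subgroup.centralizer ({x} : Set G)), _) = _
    rw [sum_eq_sum_blocks hM, sum_eq_sum_blocks hM (G := ↥(Subgroup.centralizer ({x} : Set G)))]
    refine Finset.sum_congr rfl fun b hb => ?_
    obtain ⟨η₀, -, rfl⟩ := Finset.mem_image.1 hb
    have hb' : IsPBlock M (blockOf M (η₀ : (Subgroup.centralizer ({x} : Set G)) → ℂ)) := isPBlock_blockOf η₀
    by_cases hi : IsInducedBlock M (Subgroup.centralizer ({x} : Set G)) (blockOf M (η₀ : (Subgroup.centralizer ({x} : Set G)) → ℂ)) (blockOf M (χ : G → ℂ))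
    · obtain ⟨-, -, hall⟩ := isInducedBlock_iff.1 hi
      refine Finset.sum_congr rfl fun η hη => ?_
      rw [hall η ((Set.Finite.mem_toFinset _).1 hη) χ (mem_blockOf_self χ) a ha]
    · have h1 := blockPart_eq_zero_of_not_induced hM hx (isPBlock_blockOf χ) (mem_blockOf_self χ)
        hb' hi hy
      rw [blockPart_eq, finsum_mem_eq_finite_toFinset_sum _ (Set.toFinite _)] at h1
      by_cases hη : omegaBar η₀ (resElt (Subgroup.centralizer ({x} : Set G)) a) = 1
      · rw [Finset.sum_congr rfl fun η hη' => by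
          rw [if_pos ((omegaBar_congr (IsPBlock.sameBlock hb' ((Set.Finite.mem_toFinset _).1 hη')
            (mem_blockOf_self η₀)) (resElt (Subgroup.centralizer ({x} : Set G)) a)).trans hη)]]
        by_cases hχ : omegaBar χ a = 1
        · simp only [if_pos hχ]
        · simp only [if_neg hχ, Finset.sum_const_zero]
          exact h1
      · rw [Finset.sum_congr rfl (g := fun _ => (0 : ℂ)) fun η hη' => by
          rw [if_neg fun e => hη ((omegaBar_congr (IsPBlock.sameBlock hb'
            ((Set.Finite.mem_toFinset _).1 hη') (mem_blockOf_self η₀)) (resElt (Subgroup.centralizer ({x} : Set G)) a)).symm.trans e)],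
          Finset.sum_const_zero]
        by_cases hχ : omegaBar χ a = 1
        · simp only [if_pos hχ]
          exact h1.symm
        · simp only [if_neg hχ, Finset.sum_const_zero]
  calc cutNorm a (x * (y : G)) = ∑ χ : IrrCharacter G, v χ * conj ((χ : G → ℂ) (x * (y : G))) := by
        rw [cutNorm, finsum_eq_sum_of_fintype]
        refine Finset.sum_congr rfl fun χ _ => ?_
        rw [hval]
        split_ifs <;> simp
    _ = ∑ η : IrrCharacter (Subgroup.centralizer ({x} : Set G)), if omegaBar η (resElt (Subgroup.centralizer ({x} : Set G)) a) = 1 then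
          ∑ χ : IrrCharacter G, classInner (θ χ) (η : (Subgroup.centralizer ({x} : Set G)) → ℂ) * (η : (Subgroup.centralizer ({x} : Set G)) → ℂ) y *
            conj ((χ : G → ℂ) (x * (y : G))) else 0 := by
        simp only [hv, Finset.sum_mul, ite_mul, zero_mul]
        rw [Finset.sum_comm]
        exact Finset.sum_congr rfl fun η _ => by split_ifs <;> simp
    _ = _ := by
        rw [cutNorm, finsum_eq_sum_of_fintype, sum_eq_sum_blocks hM, sum_eq_sum_blocks hM (G := ↥(Subgroup.centralizer ({x} : Set G)))]
        refine Finset.sum_congr rfl fun b hb => ?_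
        obtain ⟨η₀, -, rfl⟩ := Finset.mem_image.1 hb
        have hb' : IsPBlock M (blockOf M (η₀ : (Subgroup.centralizer ({x} : Set G)) → ℂ)) := isPBlock_blockOf η₀
        have hω : ∀ η ∈ (Set.toFinite (blockOf M (η₀ : (Subgroup.centralizer ({x} : Set G)) → ℂ))).toFinset,
            omegaBar η (resElt (Subgroup.centralizer ({x} : Set G)) a) = omegaBar η₀ (resElt (Subgroup.centralizer ({x} : Set G)) a) := fun η hη =>
          omegaBar_congr (IsPBlock.sameBlock hb' ((Set.Finite.mem_toFinset _).1 hη)
            (mem_blockOf_self η₀)) _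
        by_cases hη : omegaBar η₀ (resElt (Subgroup.centralizer ({x} : Set G)) a) = 1
        · rw [Finset.sum_congr rfl fun η hη' => if_pos ((hω η hη').trans hη),
            Finset.sum_congr rfl fun η hη' => if_pos ((hω η hη').trans hη), Finset.sum_comm,
            ← sum_blockPart_mul_conj_apply hM hx hb' hy]
          refine Finset.sum_congr rfl fun χ _ => ?_
          rw [blockPart_eq, finsum_mem_eq_finite_toFinset_sum _ (Set.toFinite _), Finset.sum_mul]
        · rw [Finset.sum_congr rfl fun η hη' => if_neg fun e => hη ((hω η hη').symm.trans e),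
            Finset.sum_congr rfl fun η hη' => if_neg fun e => hη ((hω η hη').symm.trans e)]

/-- The rank of a union of blocks. -/
theorem blockRank_eq_sum_of_union [Fintype (IrrCharacter G)] {S : Set (IrrCharacter G)}
    (hS : ∀ χ ∈ S, ∀ ψ : IrrCharacter G, SameBlock M (χ : G → ℂ) (ψ : G → ℂ) → ψ ∈ S) :
    (blockRank p S : ℂ) =
      ∑ χ ∈ (Set.toFinite S).toFinset, classInner (regCut p (χ : G → ℂ)) (χ : G → ℂ) := by
  set A := (Set.toFinite S).toFinset with hA
  let φ : IrrCharacter G → (G → ℂ) →ₗ[ℂ] ℂ := fun χ =>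
    { toFun := fun f => classInner f (χ : G → ℂ)
      map_add' := fun f f' => classInner_add_left f f' _
      map_smul' := fun c f => classInner_smul_left f _ c }
  let T : (G → ℂ) →ₗ[ℂ] (G → ℂ) := ∑ χ ∈ A, (φ χ).smulRight (regCut p (χ : G → ℂ))
  set W := Submodule.span ℂ ((fun χ : IrrCharacter G => pRegularPart p (χ : G → ℂ)) '' S) with hW
  have happly : ∀ f, T f = ∑ χ ∈ A, classInner f (χ : G → ℂ) • regCut p (χ : G → ℂ) := fun f => by
    simp [T, φ, LinearMap.sum_apply]
  have hproj : LinearMap.IsProj W T := by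
    refine ⟨fun f => ?_, fun f hf => ?_⟩
    · rw [happly]
      refine Submodule.sum_mem _ fun χ hχ => Submodule.smul_mem _ _ (Submodule.subset_span ?_)
      exact ⟨χ, (Set.Finite.mem_toFinset _).1 hχ, pRegularPart_eq_regCut p _⟩
    · induction hf using Submodule.span_induction with
      | mem f hf =>
        obtain ⟨ψ, hψ, rfl⟩ := hf
        have hb := isPBlock_blockOf (M := M) ψ
        simp only [pRegularPart_eq_regCut, happly]
        refine Eq.trans ?_ (regCut_eq_sum hM hb (mem_blockOf_self ψ)).symm
        refine (Finset.sum_subset (fun χ hχ => ?_) fun χ _ hχ => ?_).symm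
        · rw [hA, Set.Finite.mem_toFinset]
          exact hS ψ hψ χ ((Set.Finite.mem_toFinset _).1 hχ)
        · have h2 := regNum_eq (p := p) ψ χ
          rw [regNum_eq_zero_of_notMem hM hb (mem_blockOf_self ψ) (by simpa using hχ),
            Int.cast_zero, mul_eq_zero] at h2
          rw [h2.resolve_left (Nat.cast_ne_zero.2 (pow_ne_zero _ hM.1.ne_zero)), zero_smul]
      | zero => exact map_zero T
      | add a b _ _ ha hb => rw [map_add, ha, hb]
      | smul c a _ ha => rw [map_smul, ha]
  have h1 : LinearMap.trace ℂ (G → ℂ) T = (Module.finrank ℂ W : ℂ) := hproj.trace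
  rw [show blockRank p S = Module.finrank ℂ W from rfl, ← h1, map_sum]
  exact Finset.sum_congr rfl fun χ _ => LinearMap.trace_smulRight _ _

omit [M.IsPrime] in
/-- The singular elements are the products over the sections. -/
theorem sum_singular (f : G → ℂ) :
    (∑ g : G, if p ∣ orderOf g then f g else 0) =
      ∑ x : G, if (∃ k : ℕ, orderOf x = p ^ k) ∧ x ≠ 1 then
        ∑ y : Subgroup.centralizer ({x} : Set G), if p ∣ orderOf y then 0 else f (x * (y : G))
      else 0 := by
  rw [← Finset.sum_filter, ← Finset.sum_filter]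
  conv_rhs => enter [2, x]; rw [Finset.sum_congr rfl fun y _ => (ite_not (p ∣ orderOf y) _ _).symm, ← Finset.sum_filter]
  rw [Finset.sum_sigma']
  symm
  refine Finset.sum_bij (fun z _ => z.1 * (z.2 : G)) ?_ ?_ ?_ fun _ _ => rfl
  · rintro ⟨x, y⟩ h
    simp only [Finset.mem_sigma, Finset.mem_filter, Finset.mem_univ, true_and] at h ⊢
    exact (IsPPart.dvd_orderOf_iff (Fact.out : p.Prime)
      (isPPart_mul_of_mem_centralizer h.1.1 h.2)).2 h.1.2
  · rintro ⟨x, y⟩ h ⟨x', y'⟩ h' e
    simp only [Finset.mem_sigma, Finset.mem_filter, Finset.mem_univ, true_and] at h h' e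
    have h1 := isPPart_mul_of_mem_centralizer h.1.1 h.2
    rw [e] at h1
    obtain rfl := Star.pPart_unique (Fact.out : p.Prime) h1 (isPPart_mul_of_mem_centralizer h'.1.1 h'.2)
    obtain rfl := Subtype.ext (mul_left_cancel e)
    rfl
  · intro g hg
    simp only [Finset.mem_filter, Finset.mem_univ, true_and] at hg
    obtain ⟨u, s, hu, hs, hc, rfl⟩ := Star.exists_decomp (p := p) g
    have hsC : s ∈ Subgroup.centralizer ({u} : Set G) := mem_centralizer_singleton.2 hc.symm
    refine ⟨⟨u, ⟨s, hsC⟩⟩, ?_, rfl⟩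
    simp only [Finset.mem_sigma, Finset.mem_filter, Finset.mem_univ, true_and, Subgroup.orderOf_mk]
    refine ⟨⟨hu, fun e => hs ?_⟩, hs⟩
    rwa [e, one_mul] at hg

/-- `k - l` of the union of blocks given by `a`, as a sum over the sections. -/
theorem card_mul_card_sub_rank {a : MonoidAlgebra (Res M) G} (ha : IsCentralElt a) :
    (Nat.card G : ℂ) * ((Nat.card {χ : IrrCharacter G | omegaBar χ a = 1} : ℂ) -
        (blockRank p {χ : IrrCharacter G | omegaBar χ a = 1} : ℂ)) =
      ∑ x : G, if (∃ k : ℕ, orderOf x = p ^ k) ∧ x ≠ 1 then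
        regNorm p (resElt (Subgroup.centralizer ({x} : Set G)) a) else 0 := by
  have := Fintype.ofFinite (IrrCharacter G)
  set S := {χ : IrrCharacter G | omegaBar χ a = 1} with hSdef
  have hS : ∀ χ ∈ S, ∀ ψ : IrrCharacter G, SameBlock M (χ : G → ℂ) (ψ : G → ℂ) → ψ ∈ S :=
    fun χ hχ ψ h => (omegaBar_congr h a).symm.trans hχ
  set A := (Set.toFinite S).toFinset with hA
  have hk : (Nat.card S : ℂ) = ∑ χ ∈ A, classInner (χ : G → ℂ) (χ : G → ℂ) := by
    rw [Finset.sum_congr rfl fun χ _ => classInner_irr_self χ, Finset.sum_const, nsmul_eq_mul,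
      mul_one, hA, Nat.card_coe_set_eq, Set.ncard_eq_toFinset_card S (Set.toFinite S)]
  rw [hk, blockRank_eq_sum_of_union hM hS, ← hA, ← Finset.sum_sub_distrib, Finset.mul_sum]
  have hterm : ∀ χ : IrrCharacter G, (Nat.card G : ℂ) * (classInner (χ : G → ℂ) (χ : G → ℂ) -
      classInner (regCut p (χ : G → ℂ)) (χ : G → ℂ)) =
        ∑ g : G, if p ∣ orderOf g then (χ : G → ℂ) g * conj ((χ : G → ℂ) g) else 0 := fun χ => by
    rw [classInner, classInner, ← mul_sub, mul_inv_cancel_left₀
      (Nat.cast_ne_zero.2 Nat.card_pos.ne'), ← Finset.sum_sub_distrib]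
    refine Finset.sum_congr rfl fun g _ => ?_
    unfold regCut
    split_ifs <;> ring
  rw [Finset.sum_congr rfl fun χ _ => hterm χ, Finset.sum_comm]
  rw [Finset.sum_congr rfl (g := fun g : G => if p ∣ orderOf g then cutNorm a g else 0) fun g _ => ?_,
    sum_singular hM]
  · refine Finset.sum_congr rfl fun x _ => ?_
    split_ifs with hx
    · refine Finset.sum_congr rfl fun y _ => ?_
      split_ifs with hy
      · rfl
      · exact cutNorm_mul hM ha hx.1 hy
    · rfl
  · split_ifs with hg
    · rw [cutNorm, finsum_eq_sum_of_fintype, ← Finset.sum_filter]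
      refine Finset.sum_congr ?_ fun _ _ => rfl
      ext χ
      simp [hA, hSdef]
    · exact Finset.sum_const_zero

end CfsgLib.Blocks.ChainSum
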